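import Mathlib

/-!
# Nagata's coordinate change over an arbitrary commutative ring

`Θ : R[x_0, …, x_n] ≃ R[y_1, …, y_n][X]`, `x_0 ↦ X`, `x_i ↦ y_i + X^(N^i)`.  Every monomial of weight
`wt v = ∑ N^i v_i` is sent to a constant times a monic polynomial of degree `wt v`.
-/

set_option autoImplicit false
set_option linter.style.haveILetI false

namespace Groth.Agent.H46.GenFree

open MvPolynomial

noncomputable section

variable (R : Type*) [CommRing R] (n : ℕ) (N : ℕ)

/-- coordinate change `X_i ↦ X_i + c X_0^(N^i)` (`i ≠ 0`), `X_0 ↦ X_0` -/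
def T1 (c : R) : MvPolynomial (Fin (n + 1)) R →ₐ[R] MvPolynomial (Fin (n + 1)) R :=
  aeval fun i ↦ if i = 0 then X 0 else X i + c • X 0 ^ (N ^ (i : ℕ))

lemma T1_comp_T1_neg (c : R) : (T1 R n N c).comp (T1 R n N (-c)) = AlgHom.id _ _ := by
  rw [T1, T1, comp_aeval, ← MvPolynomial.aeval_X_left]
  ext i v
  cases i using Fin.cases <;> simp

/-- the coordinate change as an algebra automorphism -/
def T : MvPolynomial (Fin (n + 1)) R ≃ₐ[R] MvPolynomial (Fin (n + 1)) R :=
  AlgEquiv.ofAlgHom (T1 R n N 1) (T1 R n N (-1)) (T1_comp_T1_neg R n N 1)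
    (by simpa using T1_comp_T1_neg R n N (-1))

/-- coordinate change followed by `finSuccEquiv` -/
def Θ : MvPolynomial (Fin (n + 1)) R ≃ₐ[R] Polynomial (MvPolynomial (Fin n) R) :=
  (T R n N).trans (finSuccEquiv R n)

lemma Θ_X_zero : Θ R n N (X 0) = Polynomial.X := by
  simp [Θ, T, T1, finSuccEquiv_X_zero]

lemma Θ_X_succ (i : Fin n) :
    Θ R n N (X i.succ) = Polynomial.X ^ (N ^ ((i : ℕ) + 1)) + Polynomial.C (X i) := by
  simp [Θ, T, T1, finSuccEquiv_X_zero, finSuccEquiv_X_succ, Fin.succ_ne_zero, add_comm]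

/-- the monic polynomial attached to a monomial -/
def mono (v : Fin (n + 1) →₀ ℕ) : Polynomial (MvPolynomial (Fin n) R) :=
  ∏ i, (Θ R n N (X i)) ^ (v i)

lemma Θ_monomial (v : Fin (n + 1) →₀ ℕ) (c : R) :
    Θ R n N (monomial v c) = Polynomial.C (C c) * mono R n N v := by
  rw [monomial_eq, map_mul, Finsupp.prod_fintype _ _ (fun i => pow_zero _), map_prod]
  congr 1
  · rw [← algebraMap_eq, AlgEquiv.commutes]
    rfl
  · simp only [map_pow, mono]

/-- the weight of a monomial -/
def wt (v : Fin (n + 1) →₀ ℕ) : ℕ := ∑ i : Fin (n + 1), N ^ (i : ℕ) * v i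

variable {R n N}

lemma Θ_X_monic [Nontrivial R] (hN : 0 < N) (i : Fin (n + 1)) :
    (Θ R n N (X i)).Monic ∧ (Θ R n N (X i)).natDegree = N ^ (i : ℕ) := by
  cases i using Fin.cases with
  | zero => rw [Θ_X_zero]; simp [Polynomial.monic_X]
  | succ i =>
    rw [Θ_X_succ]
    refine ⟨Polynomial.monic_X_pow_add_C _ (pow_pos hN _).ne', ?_⟩
    rw [Polynomial.natDegree_X_pow_add_C]
    simp

lemma mono_monic [Nontrivial R] (hN : 0 < N) (v : Fin (n + 1) →₀ ℕ) : (mono R n N v).Monic :=
  Polynomial.monic_prod_of_monic _ _ fun i _ => (Θ_X_monic hN i).1.pow _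

lemma mono_natDegree [Nontrivial R] (hN : 0 < N) (v : Fin (n + 1) →₀ ℕ) :
    (mono R n N v).natDegree = wt n N v := by
  rw [mono, Polynomial.natDegree_prod_of_monic _ _ fun i _ => (Θ_X_monic hN i).1.pow _, wt]
  refine Finset.sum_congr rfl fun i _ => ?_
  rw [(Θ_X_monic hN i).1.natDegree_pow, (Θ_X_monic hN i).2, mul_comm]

lemma wt_inj (hN : 2 ≤ N) (v w : Fin (n + 1) →₀ ℕ) (hv : ∀ i, v i < N) (hw : ∀ i, w i < N)
    (h : wt n N v = wt n N w) : v = w := by
  refine Finsupp.ext <| congrFun <| List.ofFn_inj.mp ?_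
  apply Nat.ofDigits_inj_of_len_eq (b := N) (by omega) (by simp)
  · intro l hl
    obtain ⟨i, rfl⟩ := (List.mem_ofFn' _ _).mp hl
    exact hv i
  · intro l hl
    obtain ⟨i, rfl⟩ := (List.mem_ofFn' _ _).mp hl
    exact hw i
  simp only [Nat.ofDigits_eq_sum_mapIdx, List.mapIdx_eq_ofFn, List.get_ofFn, List.length_ofFn,
    Fin.val_cast, List.sum_ofFn, Fin.cast_cast, Fin.cast_eq_self]
  simpa only [wt, mul_comm] using h

end

noncomputable section

variable {R : Type*} [CommRing R] {n : ℕ}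

/-- For `g • P ≠ 0` there is a coordinate change after which `g • P` has "leading coefficient"
`g * a ≠ 0` in the last variable. -/
theorem exists_coord (P : MvPolynomial (Fin (n + 1)) R) (g : R) (hgP : g • P ≠ 0) :
    ∃ (N : ℕ) (a : R) (d : ℕ), g * a ≠ 0 ∧
      (∀ j, d < j → (Θ R n N (g • P)).coeff j = 0) ∧
      (Θ R n N (g • P)).coeff d = C (g * a) := by
  classical
  haveI : Nontrivial R := by
    by_contra hnt
    haveI := not_nontrivial_iff_subsingleton.mp hnt
    exact hgP (Subsingleton.elim _ _)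
  let N := P.totalDegree + 2
  have hN : 0 < N := by omega
  have hN2 : 2 ≤ N := by omega
  set Q := g • P with hQ
  have hQne : Q.support.Nonempty := by
    rw [Finset.nonempty_iff_ne_empty, Ne, MvPolynomial.support_eq_empty]
    exact hgP
  obtain ⟨v₀, hv₀, hmax⟩ := Finset.exists_max_image Q.support (wt n N) hQne
  have hlt : ∀ v ∈ Q.support, ∀ i, v i < N := by
    intro v hv i
    have h1 : v i ≤ Q.totalDegree :=
      (monomial_le_degreeOf i hv).trans (degreeOf_le_totalDegree Q i)
    have h2 : Q.totalDegree ≤ P.totalDegree := totalDegree_smul_le g P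
    omega
  have hexp : Θ R n N Q = ∑ v ∈ Q.support, Polynomial.C (C (coeff v Q)) * mono R n N v := by
    conv_lhs => rw [← Q.support_sum_monomial_coeff]
    rw [map_sum]
    exact Finset.sum_congr rfl fun v _ => Θ_monomial R n N v _
  refine ⟨N, coeff v₀ P, wt n N v₀, ?_, ?_, ?_⟩
  · have := mem_support_iff.mp hv₀
    simpa [hQ, coeff_smul] using this
  · intro j hj
    rw [hexp, Polynomial.finsetSum_coeff]
    refine Finset.sum_eq_zero fun v hv => ?_
    rw [Polynomial.coeff_C_mul, Polynomial.coeff_eq_zero_of_natDegree_lt, mul_zero]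
    rw [mono_natDegree hN]
    exact lt_of_le_of_lt (hmax v hv) hj
  · rw [hexp, Polynomial.finsetSum_coeff, Finset.sum_eq_single v₀]
    · rw [Polynomial.coeff_C_mul, ← mono_natDegree (R := R) hN v₀,
        (mono_monic hN v₀).coeff_natDegree, mul_one]
      simp [hQ, coeff_smul]
    · intro v hv hne
      rw [Polynomial.coeff_C_mul, Polynomial.coeff_eq_zero_of_natDegree_lt, mul_zero]
      rw [mono_natDegree hN]
      exact lt_of_le_of_ne (hmax v hv)
        (fun h => hne (wt_inj hN2 v v₀ (hlt v hv) (hlt v₀ hv₀) h))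
    · intro h; exact absurd hv₀ h

end

end Groth.Agent.H46.GenFree
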