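import Mathlib

/-!
# Finite presentation over a finite type algebra

If `B` is an `A`-algebra of finite type and `N` is a `B`-module which is finitely presented as an
`A`-module, then `N` is finitely presented as a `B`-module.
-/

set_option autoImplicit false

namespace Groth.Agent.H46.GenFree

open TensorProduct

section

variable (A B N : Type*) [CommRing A] [CommRing B] [Algebra A B]
  [AddCommGroup N] [Module A N] [Module B N] [IsScalarTower A B N]

/-- the multiplication map `B ⊗[A] N → N` -/
noncomputable def mulMap : B ⊗[A] N →ₗ[B] N :=
  LinearMap.liftBaseChange B (LinearMap.id : N →ₗ[A] N)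

@[simp] theorem mulMap_tmul (b : B) (n : N) : mulMap A B N (b ⊗ₜ[A] n) = b • n := by
  simp [mulMap]

/-- the defect `b ⊗ n - 1 ⊗ b n`, as an `A`-linear map in `n` -/
noncomputable def defect (b : B) : N →ₗ[A] B ⊗[A] N where
  toFun n := b ⊗ₜ[A] n - (1 : B) ⊗ₜ[A] (b • n)
  map_add' x y := by
    simp only [tmul_add, smul_add]; abel
  map_smul' a x := by
    simp only [RingHom.id_apply, smul_sub]
    rw [tmul_smul, smul_comm b a x, tmul_smul]

@[simp] theorem defect_apply (b : B) (n : N) :
    defect A B N b n = b ⊗ₜ[A] n - (1 : B) ⊗ₜ[A] (b • n) := rfl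

theorem finitePresentation_of_finiteType [Algebra.FiniteType A B]
    [Module.FinitePresentation A N] : Module.FinitePresentation B N := by
  classical
  obtain ⟨s, hs⟩ := (Algebra.FiniteType.out : (⊤ : Subalgebra A B).FG)
  obtain ⟨t, ht⟩ := (Module.Finite.fg_top : (⊤ : Submodule A N).FG)
  let gens : Set (B ⊗[A] N) := (fun p : B × N => defect A B N p.1 p.2) '' (s ×ˢ t : Finset (B × N))
  let K' : Submodule B (B ⊗[A] N) := Submodule.span B gens
  have hK'fg : K'.FG := by
    refine Submodule.fg_span ?_
    exact (Finset.finite_toSet _).image _
  -- the key claim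
  have hgen : ∀ b ∈ s, ∀ n : N, defect A B N b n ∈ K' := by
    intro b hb n
    have hle : (⊤ : Submodule A N) ≤ (K'.restrictScalars A).comap (defect A B N b) := by
      rw [← ht, Submodule.span_le]
      intro n hn
      simp only [Submodule.comap_coe, Submodule.coe_restrictScalars, Set.mem_preimage,
        SetLike.mem_coe]
      refine Submodule.subset_span ⟨(b, n), ?_, rfl⟩
      simp only [Finset.coe_product, Set.mem_prod, Finset.mem_coe]
      exact ⟨hb, hn⟩
    exact hle (Submodule.mem_top : n ∈ ⊤)
  have hall : ∀ (b : B) (n : N), defect A B N b n ∈ K' := by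
    intro b
    have hb : b ∈ Algebra.adjoin A (s : Set B) := by rw [hs]; trivial
    induction hb using Algebra.adjoin_induction with
    | mem x hx => exact hgen x hx
    | algebraMap a =>
      intro n
      have : defect A B N (algebraMap A B a) n = 0 := by
        simp only [defect_apply, algebraMap_smul]
        rw [Algebra.algebraMap_eq_smul_one, smul_tmul, sub_self]
      rw [this]; exact zero_mem _
    | add x y _ _ hx hy =>
      intro n
      have : defect A B N (x + y) n = defect A B N x n + defect A B N y n := by
        simp only [defect_apply, add_tmul, add_smul, tmul_add]; abel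
      rw [this]; exact add_mem (hx n) (hy n)
    | mul x y _ _ hx hy =>
      intro n
      have : defect A B N (x * y) n = x • defect A B N y n + defect A B N x (y • n) := by
        simp only [defect_apply, smul_sub, smul_tmul', smul_eq_mul, mul_one, mul_smul]; abel
      rw [this]; exact add_mem (K'.smul_mem x (hy n)) (hx (y • n))
  have hker : LinearMap.ker (mulMap A B N) = K' := by
    apply le_antisymm
    · intro x hx
      rw [LinearMap.mem_ker] at hx
      have key : ∀ x : B ⊗[A] N, x - (1 : B) ⊗ₜ[A] (mulMap A B N x) ∈ K' := by
        intro x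
        induction x using TensorProduct.induction_on with
        | zero => simp
        | tmul b n => simpa using hall b n
        | add x y hx hy =>
          have : x + y - (1 : B) ⊗ₜ[A] (mulMap A B N (x + y)) =
              (x - (1 : B) ⊗ₜ[A] (mulMap A B N x)) + (y - (1 : B) ⊗ₜ[A] (mulMap A B N y)) := by
            simp only [map_add, tmul_add]; abel
          rw [this]; exact add_mem hx hy
      have := key x
      rwa [hx, tmul_zero, sub_zero] at this
    · rw [Submodule.span_le]
      rintro _ ⟨⟨b, n⟩, _, rfl⟩
      simp [defect_apply]
  have hsurj : Function.Surjective (mulMap A B N) := fun n => ⟨1 ⊗ₜ n, by simp⟩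
  exact Module.finitePresentation_of_surjective (mulMap A B N) hsurj (hker ▸ hK'fg)

end

end Groth.Agent.H46.GenFree
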