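import Mathlib
import Groth.Agent.H46.GenFree.FPRestrict

/-!
# Freeness / finite presentation after inverting one element

`GoodFree R M h`: `M_h` is free over `R_h`; `GoodFP R M h`: `M_h` is finitely presented over `R_h`
(concrete models `LocalizedModule (powers h) M` over `Localization.Away h`), with transfer lemmas.
-/

set_option autoImplicit false
set_option linter.style.haveILetI false

namespace Groth.Agent.H46.GenFree

/-- `M_h` is a free `R_h`-module -/
def GoodFree (R : Type*) [CommRing R] (M : Type*) [AddCommGroup M] [Module R M] (h : R) : Prop :=
  Module.Free (Localization.Away h) (LocalizedModule (Submonoid.powers h) M)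

/-- `M_h` is a finitely presented `R_h`-module -/
def GoodFP (R : Type*) [CommRing R] (M : Type*) [AddCommGroup M] [Module R M] (h : R) : Prop :=
  Module.FinitePresentation (Localization.Away h) (LocalizedModule (Submonoid.powers h) M)

section abs

variable {R : Type*} [CommRing R] {M : Type*} [AddCommGroup M] [Module R M] {h : R}
  {N : Type*} [AddCommGroup N] [Module R N] [Module (Localization.Away h) N]
  [IsScalarTower R (Localization.Away h) N] (f : M →ₗ[R] N)
  [IsLocalizedModule (Submonoid.powers h) f]

/-- the comparison equivalence with an abstract localization -/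
noncomputable def absEquiv :
    LocalizedModule (Submonoid.powers h) M ≃ₗ[Localization.Away h] N :=
  (IsLocalizedModule.iso (Submonoid.powers h) f).extendScalarsOfIsLocalization
    (Submonoid.powers h) (Localization.Away h)

include f in
theorem goodFree_iff : GoodFree R M h ↔ Module.Free (Localization.Away h) N :=
  ⟨fun hh => by
    haveI : Module.Free (Localization.Away h) (LocalizedModule (Submonoid.powers h) M) := hh
    exact Module.Free.of_equiv (absEquiv f),
   fun hh => by haveI := hh; exact Module.Free.of_equiv (absEquiv f).symm⟩

include f in
theorem goodFP_iff : GoodFP R M h ↔ Module.FinitePresentation (Localization.Away h) N :=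
  ⟨fun hh => by
    haveI : Module.FinitePresentation (Localization.Away h)
      (LocalizedModule (Submonoid.powers h) M) := hh
    exact Module.FinitePresentation.of_equiv (absEquiv f),
   fun hh => by haveI := hh; exact Module.FinitePresentation.of_equiv (absEquiv f).symm⟩

end abs

section torsion

variable {R : Type*} [CommRing R] {M : Type*} [AddCommGroup M] [Module R M] (h : R)

theorem subsingleton_of_torsion (ht : ∀ m : M, ∃ k : ℕ, h ^ k • m = 0) :
    Subsingleton (LocalizedModule (Submonoid.powers h) M) := by
  have h0 : ∀ x : LocalizedModule (Submonoid.powers h) M, x = 0 := by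
    intro x
    induction x using LocalizedModule.induction_on with
    | h m s =>
      obtain ⟨k, hk⟩ := ht m
      rw [← LocalizedModule.zero_mk s, LocalizedModule.mk_eq]
      refine ⟨⟨h ^ k, k, rfl⟩, ?_⟩
      simp only [Submonoid.smul_def, smul_zero]
      rw [smul_comm, hk, smul_zero]
  exact ⟨fun x y => by rw [h0 x, h0 y]⟩

theorem goodFree_of_torsion (ht : ∀ m : M, ∃ k : ℕ, h ^ k • m = 0) : GoodFree R M h := by
  haveI := subsingleton_of_torsion h ht
  exact Module.Free.of_subsingleton _ _

theorem goodFP_of_torsion (ht : ∀ m : M, ∃ k : ℕ, h ^ k • m = 0) : GoodFP R M h := by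
  haveI := subsingleton_of_torsion h ht
  exact Module.FinitePresentation.of_subsingleton _

end torsion

section exact

variable {R : Type*} [CommRing R] {M' M M'' : Type*} [AddCommGroup M'] [AddCommGroup M]
  [AddCommGroup M''] [Module R M'] [Module R M] [Module R M'']
  (f : M' →ₗ[R] M) (g : M →ₗ[R] M'') (hf : Function.Injective f) (hg : Function.Surjective g)
  (hfg : Function.Exact f g) (h : R)

include hf hg hfg

theorem GoodFree.of_exact (h1 : GoodFree R M' h) (h2 : GoodFree R M'' h) : GoodFree R M h := by
  unfold GoodFree at *
  let f' := LocalizedModule.map (Submonoid.powers h) f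
  let g' := LocalizedModule.map (Submonoid.powers h) g
  have hf' : Function.Injective f' := LocalizedModule.map_injective _ f hf
  have hg' : Function.Surjective g' := LocalizedModule.map_surjective _ g hg
  have hex : Function.Exact f' g' := LocalizedModule.map_exact _ f g hfg
  haveI := h2
  haveI := h1
  obtain ⟨l, hl⟩ := Module.projective_lifting_property g' LinearMap.id hg'
  let e := (hex.splitSurjectiveEquiv hf' ⟨l, hl⟩).1
  exact Module.Free.of_equiv e.symm

theorem GoodFP.of_exact (h1 : GoodFP R M' h) (h2 : GoodFP R M'' h) : GoodFP R M h := by
  unfold GoodFP at *
  let f' := LocalizedModule.map (Submonoid.powers h) f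
  let g' := LocalizedModule.map (Submonoid.powers h) g
  have hf' : Function.Injective f' := LocalizedModule.map_injective _ f hf
  have hg' : Function.Surjective g' := LocalizedModule.map_surjective _ g hg
  have hex : Function.Exact f' g' := LocalizedModule.map_exact _ f g hfg
  haveI := h2
  haveI := h1
  haveI : Module.FinitePresentation (Localization.Away h) (LinearMap.ker g') := by
    have : LinearMap.ker g' = LinearMap.range f' := (LinearMap.exact_iff.mp hex)
    rw [this]
    exact Module.FinitePresentation.of_equiv (LinearEquiv.ofInjective f' hf')
  exact Module.finitePresentation_of_ker g' hg'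

end exact

section alg

variable {A B M : Type*} [CommRing A] [CommRing B] [Algebra A B] [Algebra.FiniteType A B]
  [AddCommGroup M] [Module A M] [Module B M] [IsScalarTower A B M]

/-- finite presentation after inverting `a` over `A` gives finite presentation over a finite type
`A`-algebra `B` after inverting the image of `a` -/
theorem GoodFP.of_algebra (a : A) (h : GoodFP A M a) : GoodFP B M (algebraMap A B a) := by
  let A' := Localization.Away a
  let B' := Localization.Away (algebraMap A B a)
  let N := LocalizedModule (Submonoid.powers (algebraMap A B a)) M
  letI algA'B' : Algebra A' B' := (Localization.awayMap (algebraMap A B) a).toAlgebra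
  haveI towerAA'B' : IsScalarTower A A' B' := IsScalarTower.of_algebraMap_eq (fun x => by
    change algebraMap A B' x = Localization.awayMap (algebraMap A B) a (algebraMap A A' x)
    rw [Localization.awayMap, IsLocalization.Away.map, IsLocalization.map_eq,
      IsScalarTower.algebraMap_apply A B B'])
  letI modA'N : Module A' N := Module.compHom N (algebraMap A' B')
  haveI : IsScalarTower A' B' N := ⟨fun x y z => by
    change (algebraMap A' B' x * y) • z = algebraMap A' B' x • (y • z)
    rw [mul_smul]⟩
  haveI : IsScalarTower A A' N := ⟨fun x y z => by
    change algebraMap A' B' (x • y) • z = x • (algebraMap A' B' y • z)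
    rw [Algebra.smul_def, map_mul, ← IsScalarTower.algebraMap_apply A A' B', mul_smul,
      algebraMap_smul]⟩
  let f0 : M →ₗ[B] N := LocalizedModule.mkLinearMap _ M
  haveI : IsLocalizedModule (Submonoid.powers a) (f0.restrictScalars A) :=
    IsLocalizedModule.restrictScalars_powers a f0
  haveI hA' : Module.FinitePresentation A' N := (goodFP_iff (f0.restrictScalars A)).mp h
  haveI : Algebra.FinitePresentation B B' :=
    IsLocalization.Away.finitePresentation (algebraMap A B a)
  haveI : Algebra.FiniteType B B' := Algebra.FiniteType.of_finitePresentation
  haveI : Algebra.FiniteType A B' := Algebra.FiniteType.trans (inferInstance : Algebra.FiniteType A B)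
    (inferInstance : Algebra.FiniteType B B')
  haveI : Algebra.FiniteType A' B' := Algebra.FiniteType.of_restrictScalars_finiteType A A' B'
  exact finitePresentation_of_finiteType A' B' N

end alg

end Groth.Agent.H46.GenFree
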