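import Mathlib
import Groth.Agent.H46.GenFree.Good

/-!
# Generic freeness for modules which are finite (up to inverting `g`) over a reduced ring
-/

set_option autoImplicit false
set_option linter.style.haveILetI false

namespace Groth.Agent.H46.GenFree

open Submodule

/-- `M` is generated over `A` by `r` elements, up to powers of `g : R` -/
def GenUpTo (R A M : Type*) [CommRing R] [CommRing A] [AddCommGroup M] [Module R M] [Module A M]
    (g : R) (r : ℕ) : Prop :=
  ∃ v : Fin r → M, ∀ m : M, ∃ k : ℕ, g ^ k • m ∈ Submodule.span A (Set.range v)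

section basis

variable {R : Type*} [CommRing R] {M : Type*} [AddCommGroup M] [Module R M]

/-- a family which is a basis up to powers of `h` gives freeness and finite presentation of `M_h` -/
theorem good_of_basisUpTo {r : ℕ} (v : Fin r → M) (h : R)
    (hspan : ∀ m : M, ∃ k : ℕ, h ^ k • m ∈ Submodule.span R (Set.range v))
    (hind : ∀ a : Fin r → R, (∃ k : ℕ, h ^ k • ∑ i, a i • v i = 0) → ∀ i, ∃ e : ℕ, h ^ e * a i = 0) :
    GoodFree R M h ∧ GoodFP R M h := by
  let R' := Localization.Away h
  let N := LocalizedModule (Submonoid.powers h) M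
  let ι : M →ₗ[R] N := LocalizedModule.mkLinearMap (Submonoid.powers h) M
  let w : Fin r → N := fun i => ι (v i)
  have hι : ∀ y ∈ Submodule.span R (Set.range v), ι y ∈ Submodule.span R' (Set.range w) := by
    intro y hy
    induction hy using Submodule.span_induction with
    | mem y hy => obtain ⟨i, rfl⟩ := hy; exact Submodule.subset_span ⟨i, rfl⟩
    | zero => simp
    | add _ _ _ _ h1 h2 => rw [map_add]; exact add_mem h1 h2
    | smul a y _ hy =>
      rw [map_smul, ← algebraMap_smul R' a]
      exact Submodule.smul_mem _ _ hy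
  have hsp : ⊤ ≤ Submodule.span R' (Set.range w) := by
    intro x _
    induction x using LocalizedModule.induction_on with
    | h m s =>
      obtain ⟨k, hk⟩ := hspan m
      let t : Submonoid.powers h := ⟨h ^ k, k, rfl⟩
      have e1 : LocalizedModule.mk m s =
          Localization.mk (1 : R) (s * t) • LocalizedModule.mk (h ^ k • m) (1 : Submonoid.powers h) := by
        rw [LocalizedModule.mk_smul_mk, one_smul, mul_one]
        exact (LocalizedModule.mk_cancel_common_right s t m).symm
      rw [e1]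
      refine Submodule.smul_mem _ _ ?_
      have := hι _ hk
      rwa [LocalizedModule.mkLinearMap_apply] at this
  have hli : LinearIndependent R' w := by
    rw [Fintype.linearIndependent_iff]
    intro c hc i
    obtain ⟨b, hb⟩ := IsLocalization.exist_integer_multiples_of_finite (Submonoid.powers h) c
    choose a ha using hb
    -- `ha i : algebraMap R R' (a i) = b • c i`
    have h1 : ι (∑ i, a i • v i) = 0 := by
      rw [map_sum]
      have : ∀ i, ι (a i • v i) = (b : R) • (c i • w i) := by
        intro i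
        rw [map_smul, ← algebraMap_smul R' (a i), ha i, smul_assoc]
      simp_rw [this]
      rw [← Finset.smul_sum, hc, smul_zero]
    obtain ⟨s', hs'⟩ := (IsLocalizedModule.eq_zero_iff (Submonoid.powers h) ι).mp h1
    obtain ⟨k, hk⟩ := s'.2
    have hk' : h ^ k = (s' : R) := hk
    obtain ⟨e, he⟩ := hind a ⟨k, by rw [hk']; exact hs'⟩ i
    have h2 : algebraMap R R' (a i) = 0 := by
      rw [IsLocalization.map_eq_zero_iff (Submonoid.powers h)]
      exact ⟨⟨h ^ e, e, rfl⟩, he⟩
    rw [ha i] at h2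
    have hunit : IsUnit (algebraMap R R' (b : R)) := IsLocalization.map_units R' b
    rw [Algebra.smul_def] at h2
    exact (hunit.mul_right_eq_zero).mp h2
  let bas : Module.Basis (Fin r) R' N := Module.Basis.mk hli hsp
  haveI : Module.Free R' N := Module.Free.of_basis bas
  haveI : Module.Finite R' N := Module.Finite.of_basis bas
  exact ⟨‹Module.Free R' N›, Module.finitePresentation_of_projective R' N⟩

end basis

section leaf

variable {R : Type*} [CommRing R] {M : Type*} [AddCommGroup M] [Module R M]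

theorem genUpTo_drop {r : ℕ} (v : Fin (r + 1) → M) (h : R)
    (hv : ∀ m : M, ∃ k : ℕ, h ^ k • m ∈ Submodule.span R (Set.range v))
    (a : Fin (r + 1) → R) (k : ℕ) (hk : h ^ k • ∑ i, a i • v i = 0) (j : Fin (r + 1)) :
    GenUpTo R R M (h * a j) r := by
  refine ⟨v ∘ j.succAbove, fun m => ?_⟩
  set sp := Submodule.span R (Set.range (v ∘ j.succAbove)) with hsp
  have hi : ∀ i, i ≠ j → v i ∈ sp := by
    intro i hij
    obtain ⟨i', rfl⟩ := Fin.exists_succAbove_eq hij
    exact Submodule.subset_span ⟨i', rfl⟩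
  have hj : h ^ k • a j • v j ∈ sp := by
    rw [Fin.sum_univ_succAbove _ j, smul_add] at hk
    have : h ^ k • a j • v j = -(h ^ k • ∑ i, a (j.succAbove i) • v (j.succAbove i)) :=
      eq_neg_of_add_eq_zero_left hk
    rw [this]
    refine neg_mem (Submodule.smul_mem _ _ (Submodule.sum_mem _ fun i _ => ?_))
    exact Submodule.smul_mem _ _ (hi _ (Fin.succAbove_ne j i))
  obtain ⟨k₁, hm⟩ := hv m
  obtain ⟨b, hb⟩ := (Submodule.mem_span_range_iff_exists_fun R).mp hm
  refine ⟨k₁ + k + 1, ?_⟩
  have e1 : (h * a j) ^ (k₁ + k + 1) • m = (a j ^ (k₁ + k + 1) * h ^ (k + 1)) • (h ^ k₁ • m) := by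
    rw [smul_smul]; congr 1; ring
  rw [e1, ← hb, Finset.smul_sum]
  refine Submodule.sum_mem _ fun i _ => ?_
  by_cases hij : i = j
  · subst hij
    have : (a i ^ (k₁ + k + 1) * h ^ (k + 1)) • b i • v i =
        (a i ^ (k₁ + k) * h * b i) • (h ^ k • a i • v i) := by
      rw [smul_smul, smul_smul, smul_smul]; congr 1; ring
    rw [this]
    exact Submodule.smul_mem _ _ hj
  · exact Submodule.smul_mem _ _ (Submodule.smul_mem _ _ (hi i hij))

theorem leaf [IsReduced R] (g : R) (hg : g ≠ 0) (r : ℕ) (hfin : GenUpTo R R M g r) :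
    ∃ f, g * f ≠ 0 ∧ ∀ f', GoodFree R M (g * f * f') ∧ GoodFP R M (g * f * f') := by
  classical
  have hex : ∃ r, ∃ f, g * f ≠ 0 ∧ GenUpTo R R M (g * f) r :=
    ⟨r, 1, by simpa using hg, by simpa using hfin⟩
  obtain ⟨r₀, ⟨f₀, hf₀, v, hv⟩, hmin⟩ : ∃ r₀, (∃ f, g * f ≠ 0 ∧ GenUpTo R R M (g * f) r₀) ∧
      ∀ r' < r₀, ¬ ∃ f, g * f ≠ 0 ∧ GenUpTo R R M (g * f) r' :=
    ⟨Nat.find hex, Nat.find_spec hex, fun r' hr' => Nat.find_min hex hr'⟩
  refine ⟨f₀, hf₀, fun f' => ?_⟩
  set h := g * f₀ * f' with hh
  by_cases h0 : h = 0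
  · have ht : ∀ m : M, ∃ k : ℕ, h ^ k • m = 0 := fun m => ⟨1, by rw [h0, pow_one, zero_smul]⟩
    exact ⟨goodFree_of_torsion h ht, goodFP_of_torsion h ht⟩
  · have hv' : ∀ m : M, ∃ k : ℕ, h ^ k • m ∈ Submodule.span R (Set.range v) := by
      intro m
      obtain ⟨k, hk⟩ := hv m
      refine ⟨k, ?_⟩
      have : h ^ k • m = f' ^ k • ((g * f₀) ^ k • m) := by
        rw [smul_smul, hh, mul_pow, mul_comm]
      rw [this]
      exact Submodule.smul_mem _ _ hk
    apply good_of_basisUpTo v h hv'
    rintro a ⟨k, hk⟩ i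
    by_contra hne
    push Not at hne
    obtain ⟨r', rfl⟩ : ∃ r', r₀ = r' + 1 :=
      Nat.exists_eq_succ_of_ne_zero (fun h0 => (Fin.cast h0 i).elim0)
    have hdrop := genUpTo_drop v h hv' a k hk i
    refine hmin r' (Nat.lt_succ_self r') ⟨f₀ * f' * a i, ?_, ?_⟩
    · have := hne 1
      rw [pow_one] at this
      rwa [show g * (f₀ * f' * a i) = h * a i by rw [hh]; ring]
    · rwa [show g * (f₀ * f' * a i) = h * a i by rw [hh]; ring]

end leaf

end Groth.Agent.H46.GenFree
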