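import Mathlib
import Groth.Agent.H46.GenFree.Leaf

/-!
# Pseudo-division and finiteness up to powers of the leading coefficient
-/

set_option autoImplicit false
set_option linter.style.haveILetI false

namespace Groth.Agent.H46.GenFree

open Polynomial

section pseudo

variable {A : Type*} [CommRing A]

/-- pseudo-division by a polynomial whose coefficient in degree `d` is `ℓ` and which has no
higher terms -/
theorem pseudo_div (Q : A[X]) (d : ℕ) (ℓ : A) (hd : Q.coeff d = ℓ)
    (hhi : ∀ j, d < j → Q.coeff j = 0) :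
    ∀ (m : ℕ) (F : A[X]), (∀ j, m ≤ j → F.coeff j = 0) →
      ∃ (k : ℕ) (q r : A[X]), C ℓ ^ k * F = q * Q + r ∧ ∀ j, d ≤ j → r.coeff j = 0 := by
  intro m
  induction m with
  | zero =>
    intro F hF
    have : F = 0 := by ext j; simpa using hF j (Nat.zero_le j)
    exact ⟨0, 0, 0, by simp [this], by simp⟩
  | succ m ih =>
    intro F hF
    by_cases hmd : m + 1 ≤ d
    · exact ⟨0, 0, F, by simp, fun j hj => hF j (hmd.trans hj)⟩
    · have hdm : d ≤ m := by omega
      set c := F.coeff m with hc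
      set F₁ := C ℓ * F - C c * X ^ (m - d) * Q with hF₁
      have hF₁0 : ∀ j, m ≤ j → F₁.coeff j = 0 := by
        intro j hj
        rw [hF₁, coeff_sub, coeff_C_mul, mul_assoc, coeff_C_mul, coeff_X_pow_mul']
        rw [if_pos (by omega)]
        rcases Nat.eq_or_lt_of_le hj with rfl | hlt
        · rw [show m - (m - d) = d by omega, hd, ← hc]; ring
        · rw [hF j (by omega), hhi (j - (m - d)) (by omega)]; ring
      obtain ⟨k, q₁, r, hk, hr⟩ := ih F₁ hF₁0
      refine ⟨k + 1, q₁ + C ℓ ^ k * C c * X ^ (m - d), r, ?_, hr⟩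
      have : C ℓ * F = F₁ + C c * X ^ (m - d) * Q := by rw [hF₁]; ring
      calc C ℓ ^ (k + 1) * F = C ℓ ^ k * (C ℓ * F) := by ring
        _ = C ℓ ^ k * F₁ + C ℓ ^ k * (C c * X ^ (m - d) * Q) := by rw [this]; ring
        _ = (q₁ + C ℓ ^ k * C c * X ^ (m - d)) * Q + r := by rw [hk]; ring

theorem eq_sum_range_of_coeff_eq_zero (r : A[X]) (d : ℕ) (hr : ∀ j, d ≤ j → r.coeff j = 0) :
    r = ∑ j ∈ Finset.range d, C (r.coeff j) * X ^ j := by
  ext i
  rw [finsetSum_coeff]
  simp only [coeff_C_mul, coeff_X_pow, mul_ite, mul_one, mul_zero]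
  rw [Finset.sum_ite_eq (Finset.range d) i (fun j => r.coeff j)]
  by_cases hi : i < d
  · simp [hi]
  · simp [hi, hr i (by omega)]

end pseudo

section module

variable {R A S M : Type*} [CommRing R] [CommRing A] [CommRing S] [Algebra R A] [Algebra R S]
  [Algebra A S] [IsScalarTower R A S] [AddCommGroup M] [Module R M] [Module A M] [Module S M]
  [IsScalarTower A S M] [IsScalarTower R S M]

/-- If `S ≃ A[X]` over `A`, `M` is a cyclic `S`-module whose generator is killed by `P'`, and the image of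
`P'` in `A[X]` has coefficient `ℓ` in degree `d` and no higher terms, then `M` is generated over `A` by
`d` elements up to powers of `ℓ`. -/
theorem genUpTo_of_pseudo (Θ : S ≃ₐ[A] A[X]) (m₀ : M) (hcyc : ∀ m : M, ∃ F : S, m = F • m₀)
    (P' : S) (hP' : P' • m₀ = 0) (d : ℕ) (ℓ : R) (hd : (Θ P').coeff d = algebraMap R A ℓ)
    (hhi : ∀ j, d < j → (Θ P').coeff j = 0) : GenUpTo R A M ℓ d := by
  refine ⟨fun j : Fin d => (Θ.symm (X ^ (j : ℕ))) • m₀, fun m => ?_⟩
  obtain ⟨F, rfl⟩ := hcyc m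
  obtain ⟨k, q, r, hk, hr⟩ := pseudo_div (Θ P') d (algebraMap R A ℓ) hd hhi ((Θ F).natDegree + 1)
    (Θ F) (fun j hj => coeff_eq_zero_of_natDegree_lt (by omega))
  refine ⟨k, ?_⟩
  have h1 : Θ.symm (C (algebraMap R A ℓ) ^ k * Θ F) = Θ.symm (q * Θ P' + r) := by rw [hk]
  have hC : Θ.symm (C (algebraMap R A ℓ)) = algebraMap R S ℓ := by
    rw [← Polynomial.algebraMap_eq, AlgEquiv.commutes, ← IsScalarTower.algebraMap_apply]
  rw [map_mul, map_pow, hC, AlgEquiv.symm_apply_apply, map_add, map_mul,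
    AlgEquiv.symm_apply_apply] at h1
  have h2 : ℓ ^ k • F • m₀ = Θ.symm r • m₀ := by
    rw [← algebraMap_smul S (ℓ ^ k) (F • m₀), smul_smul, map_pow, h1, add_smul, mul_smul, hP',
      smul_zero, zero_add]
  rw [h2]
  have h3 : Θ.symm r • m₀ =
      ∑ j : Fin d, r.coeff (j : ℕ) • ((Θ.symm (X ^ (j : ℕ))) • m₀) := by
    conv_lhs => rw [eq_sum_range_of_coeff_eq_zero r d hr]
    rw [map_sum, Finset.sum_smul, Finset.sum_range]
    refine Finset.sum_congr rfl fun j _ => ?_
    rw [map_mul, ← Polynomial.algebraMap_eq, AlgEquiv.commutes, mul_smul, algebraMap_smul]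
  rw [h3]
  exact Submodule.sum_mem _ fun j _ => Submodule.smul_mem _ _ (Submodule.subset_span ⟨j, rfl⟩)

end module

end Groth.Agent.H46.GenFree
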