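import Mathlib
import Groth.Agent.H46.GenFree.PseudoDiv

/-!
# The combined predicate `GoodA R S M h` and its basic properties
-/

set_option autoImplicit false
set_option linter.style.haveILetI false

namespace Groth.Agent.H46.GenFree

/-- `M_h` is free over `R_h` and finitely presented over `S_h` -/
def GoodA (R S M : Type*) [CommRing R] [CommRing S] [Algebra R S] [AddCommGroup M] [Module R M]
    [Module S M] (h : R) : Prop :=
  GoodFree R M h ∧ GoodFP S M (algebraMap R S h)

section basic

variable {R S : Type*} [CommRing R] [CommRing S] [Algebra R S]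

section
variable {M' M M'' : Type*} [AddCommGroup M'] [AddCommGroup M] [AddCommGroup M'']
  [Module R M'] [Module R M] [Module R M''] [Module S M'] [Module S M] [Module S M'']
  [IsScalarTower R S M'] [IsScalarTower R S M] [IsScalarTower R S M'']

theorem GoodA.of_exact (f : M' →ₗ[S] M) (g : M →ₗ[S] M'') (hf : Function.Injective f)
    (hg : Function.Surjective g) (hfg : Function.Exact f g) (h : R)
    (h1 : GoodA R S M' h) (h2 : GoodA R S M'' h) : GoodA R S M h :=
  ⟨GoodFree.of_exact (f.restrictScalars R) (g.restrictScalars R) hf hg hfg h h1.1 h2.1,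
    GoodFP.of_exact f g hf hg hfg _ h1.2 h2.2⟩

end

variable {M : Type*} [AddCommGroup M] [Module R M] [Module S M] [IsScalarTower R S M]

theorem goodA_of_torsion (h : R) (ht : ∀ m : M, ∃ k : ℕ, h ^ k • m = 0) : GoodA R S M h := by
  refine ⟨goodFree_of_torsion h ht, goodFP_of_torsion _ fun m => ?_⟩
  obtain ⟨k, hk⟩ := ht m
  exact ⟨k, by rw [← map_pow, algebraMap_smul, hk]⟩

/-- the leaf case: `M` finite over `R` up to powers of `g` -/
theorem leafA [IsReduced R] [Algebra.FiniteType R S] (g : R) (hg : g ≠ 0) (r : ℕ)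
    (hfin : GenUpTo R R M g r) :
    ∃ f, g * f ≠ 0 ∧ ∀ f', GoodA R S M (g * f * f') := by
  obtain ⟨f, hf, hgood⟩ := leaf g hg r hfin
  exact ⟨f, hf, fun f' => ⟨(hgood f').1, (hgood f').2.of_algebra _⟩⟩

end basic

section loc

variable {R : Type*} [CommRing R] (T : Submonoid R) {L M N : Type*} [AddCommGroup L]
  [AddCommGroup M] [AddCommGroup N] [Module R L] [Module R M] [Module R N]

/-- composing a localization map with a surjection whose kernel is killed by an element of the
submonoid gives a localization map -/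
theorem isLocalizedModule_comp_of_surjective (φ₀ : L →ₗ[R] M) (hsurj : Function.Surjective φ₀)
    (s₀ : T) (hker : ∀ x, φ₀ x = 0 → (s₀ : R) • x = 0) (ι : M →ₗ[R] N) [IsLocalizedModule T ι] :
    IsLocalizedModule T (ι ∘ₗ φ₀) where
  map_units := IsLocalizedModule.map_units ι
  surj y := by
    obtain ⟨⟨m, s⟩, hms⟩ := IsLocalizedModule.surj T ι y
    obtain ⟨x, rfl⟩ := hsurj m
    exact ⟨⟨x, s⟩, hms⟩
  exists_of_eq {x₁ x₂} e := by
    obtain ⟨c, hc⟩ := IsLocalizedModule.exists_of_eq (S := T) (f := ι) e
    have h0 : φ₀ ((c : R) • (x₁ - x₂)) = 0 := by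
      rw [map_smul, map_sub, smul_sub, sub_eq_zero]; exact hc
    have := hker _ h0
    refine ⟨s₀ * c, ?_⟩
    rw [Submonoid.smul_def, Submonoid.smul_def, Submonoid.coe_mul, mul_smul, mul_smul,
      ← sub_eq_zero, ← smul_sub, ← smul_sub]
    exact this

end loc

section caseA

variable {R S : Type*} [CommRing R] [CommRing S] [Algebra R S] [Module.Free R S]
  {M : Type*} [AddCommGroup M] [Module R M] [Module S M] [IsScalarTower R S M]

/-- Case A: a cyclic module whose annihilator is killed by `h` is good at `h`. -/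
theorem goodA_of_ann_torsion (m₀ : M) (hcyc : ∀ m : M, ∃ F : S, m = F • m₀) (h : R)
    (hann : ∀ P : S, P • m₀ = 0 → h • P = 0) : GoodA R S M h := by
  let φ₀ : S →ₗ[S] M := LinearMap.toSpanSingleton S M m₀
  have hsurj : Function.Surjective φ₀ := fun m => by
    obtain ⟨F, rfl⟩ := hcyc m
    exact ⟨F, by simp [φ₀]⟩
  constructor
  · -- freeness
    let ι := LocalizedModule.mkLinearMap (Submonoid.powers h) M
    haveI : IsLocalizedModule (Submonoid.powers h) (ι ∘ₗ (φ₀.restrictScalars R)) :=
      isLocalizedModule_comp_of_surjective (Submonoid.powers h) (φ₀.restrictScalars R) hsurj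
        ⟨h, Submonoid.mem_powers h⟩ (fun x hx => hann x (by simpa [φ₀] using hx)) ι
    have h1 : GoodFree R S h :=
      Module.free_of_isLocalizedModule (Submonoid.powers h)
        (LocalizedModule.mkLinearMap (Submonoid.powers h) S)
    have h2 := (goodFree_iff (ι ∘ₗ (φ₀.restrictScalars R))).mp h1
    exact h2
  · let ι := LocalizedModule.mkLinearMap (Submonoid.powers (algebraMap R S h)) M
    haveI : IsLocalizedModule (Submonoid.powers (algebraMap R S h)) (ι ∘ₗ φ₀) :=
      isLocalizedModule_comp_of_surjective (Submonoid.powers (algebraMap R S h)) φ₀ hsurj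
        ⟨algebraMap R S h, Submonoid.mem_powers _⟩
        (fun x hx => by
          have := hann x (by simpa [φ₀] using hx)
          rwa [Algebra.smul_def] at this) ι
    have h1 : GoodFP S S (algebraMap R S h) := by
      unfold GoodFP
      infer_instance
    exact (goodFP_iff (ι ∘ₗ φ₀)).mp h1

end caseA

end Groth.Agent.H46.GenFree
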