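import Mathlib
import Groth.Agent.H46.GenFree.GoodA

/-!
# Dévissage: from cyclic modules to modules finite up to powers of `g`
-/

set_option autoImplicit false
set_option linter.style.haveILetI false

universe u v w

namespace Groth.Agent.H46.GenFree

variable {R : Type u} {S : Type w} [CommRing R] [CommRing S] [Algebra R S]

/-- the statement for cyclic modules -/
def CycGood (R : Type u) (S : Type w) [CommRing R] [CommRing S] [Algebra R S] : Prop :=
  ∀ (M : Type v) [AddCommGroup M] [Module R M] [Module S M] [IsScalarTower R S M] (m₀ : M),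
    (∀ m : M, ∃ F : S, m = F • m₀) → ∀ g : R, g ≠ 0 →
      ∃ f, g * f ≠ 0 ∧ ∀ f', GoodA R S M (g * f * f')

theorem devissage (hcyc : CycGood.{u, v, w} R S) (r : ℕ) :
    ∀ (M : Type v) [AddCommGroup M] [Module R M] [Module S M] [IsScalarTower R S M] (g : R),
      g ≠ 0 → GenUpTo R S M g r → ∃ f, g * f ≠ 0 ∧ ∀ f', GoodA R S M (g * f * f') := by
  induction r with
  | zero =>
    intro M _ _ _ _ g hg ⟨v, hv⟩
    refine ⟨1, by simpa using hg, fun f' => goodA_of_torsion _ fun m => ?_⟩
    obtain ⟨k, hk⟩ := hv m
    have : Set.range v = ∅ := Set.range_eq_empty v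
    rw [this, Submodule.span_empty, Submodule.mem_bot] at hk
    refine ⟨k, ?_⟩
    rw [mul_one, mul_pow, mul_comm, mul_smul, hk, smul_zero]
  | succ r ih =>
    intro M _ _ _ _ g hg ⟨v, hv⟩
    let M' : Submodule S M := Submodule.span S {v 0}
    -- the quotient is generated up to `g` by `r` elements
    have hquot : GenUpTo R S (M ⧸ M') g r := by
      refine ⟨fun i => M'.mkQ (v i.succ), fun mbar => ?_⟩
      obtain ⟨m, rfl⟩ := M'.mkQ_surjective mbar
      obtain ⟨k, hk⟩ := hv m
      refine ⟨k, ?_⟩
      have h1 : M'.mkQ (g ^ k • m) ∈ Submodule.map M'.mkQ (Submodule.span S (Set.range v)) :=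
        Submodule.mem_map_of_mem hk
      rw [Submodule.map_span] at h1
      have h2 : Submodule.span S (M'.mkQ '' Set.range v) ≤
          Submodule.span S (Set.range fun i : Fin r => M'.mkQ (v i.succ)) := by
        rw [Submodule.span_le]
        rintro _ ⟨_, ⟨i, rfl⟩, rfl⟩
        cases i using Fin.cases with
        | zero =>
          have : M'.mkQ (v 0) = 0 := by
            rw [Submodule.mkQ_apply, Submodule.Quotient.mk_eq_zero]
            exact Submodule.mem_span_singleton_self _
          rw [this]; exact zero_mem _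
        | succ i => exact Submodule.subset_span ⟨i, rfl⟩
      have h3 := h2 h1
      rwa [LinearMap.map_smul_of_tower] at h3
    obtain ⟨f'', hf'', hgood''⟩ := ih (M ⧸ M') g hg hquot
    -- the cyclic submodule
    have hcycM' : ∀ m : M', ∃ F : S, m = F • (⟨v 0, Submodule.mem_span_singleton_self _⟩ : M') := by
      rintro ⟨m, hm⟩
      obtain ⟨F, rfl⟩ := Submodule.mem_span_singleton.mp hm
      exact ⟨F, rfl⟩
    obtain ⟨f', hf', hgood'⟩ := hcyc M' _ hcycM' (g * f'') hf''
    refine ⟨f'' * f', by rwa [← mul_assoc], fun f''' => ?_⟩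
    have e1 : g * (f'' * f') * f''' = g * f'' * f' * f''' := by ring
    have e2 : g * (f'' * f') * f''' = g * f'' * (f' * f''') := by ring
    refine GoodA.of_exact M'.subtype M'.mkQ M'.injective_subtype M'.mkQ_surjective
      (LinearMap.exact_subtype_mkQ M') _ ?_ ?_
    · rw [e1]; exact hgood' f'''
    · rw [e2]; exact hgood'' (f' * f''')

end Groth.Agent.H46.GenFree
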