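import Mathlib
import Groth.Agent.H46.GenFree.Devissage
import Groth.Agent.H46.GenFree.Coord

/-!
# Generic freeness for finite modules over polynomial rings over a reduced ring
-/

set_option autoImplicit false
set_option linter.style.haveILetI false

universe u v

namespace Groth.Agent.H46.GenFree

open MvPolynomial

/-- generic freeness statement for modules over the polynomial ring in `n` variables which are
finite up to powers of `g` -/
def GF (n : ℕ) : Prop :=
  ∀ (R : Type u) [CommRing R] [IsReduced R] (M : Type v) [AddCommGroup M] [Module R M]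
    [Module (MvPolynomial (Fin n) R) M] [IsScalarTower R (MvPolynomial (Fin n) R) M] (g : R),
    g ≠ 0 → (∃ r, GenUpTo R (MvPolynomial (Fin n) R) M g r) →
      ∃ f, g * f ≠ 0 ∧ ∀ f', GoodA R (MvPolynomial (Fin n) R) M (g * f * f')

theorem gf_zero : GF.{u, v} 0 := by
  intro R _ _ M _ _ _ _ g hg ⟨r, v, hv⟩
  refine leafA g hg r ⟨v, fun m => ?_⟩
  obtain ⟨k, hk⟩ := hv m
  refine ⟨k, ?_⟩
  have key : ∀ x ∈ Submodule.span (MvPolynomial (Fin 0) R) (Set.range v),
      x ∈ Submodule.span R (Set.range v) := by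
    intro x hx
    induction hx using Submodule.span_induction with
    | mem x hx => exact Submodule.subset_span hx
    | zero => exact zero_mem _
    | add x y _ _ hx hy => exact add_mem hx hy
    | smul a x _ hx =>
      rw [MvPolynomial.eq_C_of_isEmpty a, ← MvPolynomial.algebraMap_eq, algebraMap_smul]
      exact Submodule.smul_mem _ _ hx
  exact key _ hk

section caseB

variable {R : Type u} [CommRing R] [IsReduced R] {n : ℕ} {M : Type v} [AddCommGroup M] [Module R M]
  [Module (MvPolynomial (Fin (n + 1)) R) M] [IsScalarTower R (MvPolynomial (Fin (n + 1)) R) M]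

theorem caseB (ih : GF.{u, v} n) (m₀ : M)
    (hcyc : ∀ m : M, ∃ F : MvPolynomial (Fin (n + 1)) R, m = F • m₀) (g : R)
    (P : MvPolynomial (Fin (n + 1)) R) (hP : P • m₀ = 0) (hgP : g • P ≠ 0) :
    ∃ f, g * f ≠ 0 ∧ ∀ f', GoodA R (MvPolynomial (Fin (n + 1)) R) M (g * f * f') := by
  obtain ⟨N, a, d, hga, hhi, hd⟩ := exists_coord P g hgP
  let A := MvPolynomial (Fin n) R
  let S := MvPolynomial (Fin (n + 1)) R
  let ΘR : S ≃ₐ[R] Polynomial A := Θ R n N
  let ψ : A →ₐ[R] S := (ΘR.symm : Polynomial A →ₐ[R] S).comp (IsScalarTower.toAlgHom R A (Polynomial A))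
  letI algAS : Algebra A S := ψ.toRingHom.toAlgebra
  haveI towRAS : IsScalarTower R A S := IsScalarTower.of_algebraMap_eq fun x => (ψ.commutes x).symm
  let ΘA : S ≃ₐ[A] Polynomial A :=
    { ΘR with
      commutes' := fun p => by
        change ΘR (ΘR.symm (algebraMap A (Polynomial A) p)) = _
        rw [AlgEquiv.apply_symm_apply] }
  letI modAM : Module A M := Module.compHom M ψ.toRingHom
  haveI towASM : IsScalarTower A S M := ⟨fun p F m => by
    change (ψ p * F) • m = ψ p • (F • m)
    rw [mul_smul]⟩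
  haveI towRAM : IsScalarTower R A M := ⟨fun r p m => by
    change ψ (r • p) • m = r • (ψ p • m)
    rw [map_smul, smul_assoc]⟩
  have hgen : GenUpTo R A M (g * a) d := by
    refine genUpTo_of_pseudo ΘA m₀ hcyc (g • P) ?_ d (g * a) ?_ hhi
    · rw [smul_assoc, hP, smul_zero]
    · exact hd
  obtain ⟨f, hf, hgood⟩ := ih R M (g * a) hga ⟨d, hgen⟩
  haveI : Algebra.FiniteType A S := Algebra.FiniteType.of_restrictScalars_finiteType R A S
  refine ⟨a * f, by rwa [← mul_assoc], fun f' => ?_⟩
  have e : g * (a * f) * f' = g * a * f * f' := by ring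
  rw [e]
  refine ⟨(hgood f').1, ?_⟩
  have h2 := (hgood f').2.of_algebra (B := S)
  have h3 : algebraMap A S (algebraMap R A (g * a * f * f')) = algebraMap R S (g * a * f * f') :=
    (IsScalarTower.algebraMap_apply R A S _).symm
  rwa [h3] at h2

end caseB

theorem gf_succ (n : ℕ) (ih : GF.{u, v} n) : GF.{u, v} (n + 1) := by
  intro R _ _ M _ _ _ _ g hg ⟨r, hr⟩
  refine devissage.{u, v, u} ?_ r M g hg hr
  intro M' _ _ _ _ m₀ hcyc g' hg'
  by_cases hA : ∀ P : MvPolynomial (Fin (n + 1)) R, P • m₀ = 0 → g' • P = 0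
  · refine ⟨1, by simpa using hg', fun f' => goodA_of_ann_torsion m₀ hcyc _ fun P hP => ?_⟩
    rw [mul_one, mul_comm, mul_smul, hA P hP, smul_zero]
  · push Not at hA
    obtain ⟨P, hP, hgP⟩ := hA
    exact caseB ih m₀ hcyc g' P hP hgP

theorem gf_all (n : ℕ) : GF.{u, v} n := by
  induction n with
  | zero => exact gf_zero
  | succ n ih => exact gf_succ n ih

end Groth.Agent.H46.GenFree
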