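import Mathlib
import Groth.Agent.H46.GenFree.Main

/-!
# Generic freeness over a reduced ring (Stacks 051Z)
-/

set_option autoImplicit false
set_option linter.style.haveILetI false

universe u

namespace Groth.Agent.H46.GenFree

open MvPolynomial

section

variable (R S M : Type u) [CommRing R] [CommRing S] [Algebra R S] [AddCommGroup M] [Module S M]
  [Module R M] [IsScalarTower R S M]

/-- the four conclusions of generic freeness at `f` -/
def Cond (f : R) : Prop :=
  Module.Free (Localization.Away f) (LocalizedModule (Submonoid.powers f) M) ∧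
  Module.Free (Localization.Away f) (LocalizedModule (Submonoid.powers f) S) ∧
  (Localization.awayMap (algebraMap R S) f).FinitePresentation ∧
  Module.FinitePresentation (Localization.Away (algebraMap R S f))
    (LocalizedModule (Submonoid.powers (algebraMap R S f)) M)

end

section ringpart

variable {R P S : Type u} [CommRing R] [CommRing P] [CommRing S] [Algebra R P] [Algebra R S]
  [Algebra P S] [IsScalarTower R P S] [Algebra.FinitePresentation R P]

/-- if `S_h` is finitely presented as a module over `P_h`, `P → S` surjective, `P` f.p. over `R`,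
then `R_h → S_h` is of finite presentation -/
theorem awayMap_finitePresentation (hsurj : Function.Surjective (algebraMap P S)) (h : R)
    (hfp : GoodFP P S (algebraMap R P h)) :
    (Localization.awayMap (algebraMap R S) h).FinitePresentation := by
  let R' := Localization.Away h
  let P' := Localization.Away (algebraMap R P h)
  let S' := Localization.Away (algebraMap R S h)
  have hPS : algebraMap P S (algebraMap R P h) = algebraMap R S h :=
    (IsScalarTower.algebraMap_apply R P S h).symm
  haveI locS' : IsLocalization.Away (algebraMap P S (algebraMap R P h)) S' := by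
    rw [hPS]; infer_instance
  -- algebra structure of `S'` over `P'`
  letI algP'S' : Algebra P' S' :=
    (IsLocalization.Away.map P' S' (algebraMap P S) (algebraMap R P h)).toAlgebra
  haveI towPP'S' : IsScalarTower P P' S' := IsScalarTower.of_algebraMap_eq fun x => by
    change algebraMap P S' x = IsLocalization.Away.map P' S' (algebraMap P S) (algebraMap R P h)
      (algebraMap P P' x)
    rw [IsLocalization.Away.map, IsLocalization.map_eq, IsScalarTower.algebraMap_apply P S S']
  -- `S'` is the localization of the `P`-module `S`
  haveI : IsLocalization (Algebra.algebraMapSubmonoid S (Submonoid.powers (algebraMap R P h))) S' := by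
    rw [Algebra.algebraMapSubmonoid_powers]; exact locS'
  haveI : IsLocalizedModule (Submonoid.powers (algebraMap R P h))
      (IsScalarTower.toAlgHom P S S').toLinearMap := inferInstance
  have hfp' : Module.FinitePresentation P' S' :=
    (goodFP_iff (IsScalarTower.toAlgHom P S S').toLinearMap).mp hfp
  -- surjectivity of `P' → S'`
  have hsurj' : Function.Surjective (algebraMap P' S') := by
    intro y
    obtain ⟨x, s, rfl⟩ := IsLocalization.exists_mk'_eq
      (Submonoid.powers (algebraMap P S (algebraMap R P h))) y
    obtain ⟨p, rfl⟩ := hsurj x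
    obtain ⟨k, hk⟩ := s.2
    refine ⟨IsLocalization.mk' P' p
      (⟨algebraMap R P h ^ k, k, rfl⟩ : Submonoid.powers (algebraMap R P h)), ?_⟩
    change IsLocalization.Away.map P' S' (algebraMap P S) (algebraMap R P h) _ = _
    rw [IsLocalization.Away.map, IsLocalization.map_mk']
    congr 1
    ext
    simp only [map_pow]
    exact hk
  have hker : (RingHom.ker (algebraMap P' S')).FG := by
    have := Module.FinitePresentation.fg_ker (Algebra.linearMap P' S') hsurj'
    exact this
  have h1 : (algebraMap P' S').FinitePresentation :=
    RingHom.FinitePresentation.of_surjective _ hsurj' hker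
  have h2 : (algebraMap P P').FinitePresentation :=
    RingHom.finitePresentation_algebraMap.mpr
      (IsLocalization.Away.finitePresentation (algebraMap R P h))
  have h3 : (algebraMap R P).FinitePresentation :=
    RingHom.finitePresentation_algebraMap.mpr inferInstance
  have h4 : (((algebraMap P' S').comp (algebraMap P P')).comp (algebraMap R P)).FinitePresentation :=
    (h1.comp h2).comp h3
  have h5 : ((algebraMap P' S').comp (algebraMap P P')).comp (algebraMap R P) =
      (Localization.awayMap (algebraMap R S) h).comp (algebraMap R R') := by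
    ext x
    simp only [RingHom.comp_apply]
    rw [← IsScalarTower.algebraMap_apply P P' S', ← IsScalarTower.algebraMap_apply R P S',
      Localization.awayMap, IsLocalization.Away.map, IsLocalization.map_eq,
      IsScalarTower.algebraMap_apply R S S']
  rw [h5] at h4
  refine RingHom.FinitePresentation.of_comp_finiteType (algebraMap R R') h4 ?_
  exact RingHom.FiniteType.of_finitePresentation
    (RingHom.finitePresentation_algebraMap.mpr (IsLocalization.Away.finitePresentation h))

end ringpart

section main

variable (R S M : Type u) [CommRing R] [IsReduced R] [CommRing S] [Algebra R S]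
  [Algebra.FiniteType R S] [AddCommGroup M] [Module S M] [Module R M] [IsScalarTower R S M]
  [Module.Finite S M]

/-- **Generic freeness over a reduced ring**, algebraic form: every nonzero `g` has a nonzero
multiple `g * f` at which `M` and `S` become free, `S` finitely presented as an algebra and `M`
finitely presented as a module. -/
theorem exists_cond (g : R) (hg : g ≠ 0) : ∃ f, g * f ≠ 0 ∧ Cond R S M (g * f) := by
  obtain ⟨n, π, hπ⟩ := Algebra.FiniteType.iff_quotient_mvPolynomial''.mp
    (inferInstance : Algebra.FiniteType R S)
  let P := MvPolynomial (Fin n) R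
  letI algPS : Algebra P S := π.toRingHom.toAlgebra
  haveI : IsScalarTower R P S := IsScalarTower.of_algebraMap_eq fun x => (π.commutes x).symm
  letI modPM : Module P M := Module.compHom M π.toRingHom
  haveI : IsScalarTower P S M := ⟨fun p s m => by
    change (π p * s) • m = π p • (s • m)
    rw [mul_smul]⟩
  haveI : IsScalarTower R P M := ⟨fun r p m => by
    change π (r • p) • m = r • (π p • m)
    rw [map_smul, smul_assoc]⟩
  have hπ' : Function.Surjective (algebraMap P S) := hπ
  haveI : Module.Finite P S := Module.Finite.of_surjective (Algebra.linearMap P S) hπ'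
  haveI : Module.Finite P M := Module.Finite.trans S M
  have genM : ∃ r, GenUpTo R P M g r := by
    obtain ⟨r, v, hv⟩ := Module.Finite.exists_fin (R := P) (M := M)
    exact ⟨r, v, fun m => ⟨0, by rw [hv]; trivial⟩⟩
  obtain ⟨f₁, hf₁, hgood₁⟩ := gf_all n R M g hg genM
  have genS : ∃ r, GenUpTo R P S (g * f₁) r := by
    obtain ⟨r, v, hv⟩ := Module.Finite.exists_fin (R := P) (M := S)
    exact ⟨r, v, fun m => ⟨0, by rw [hv]; trivial⟩⟩
  obtain ⟨f₂, hf₂, hgood₂⟩ := gf_all n R S (g * f₁) hf₁ genS
  refine ⟨f₁ * f₂, by rwa [← mul_assoc], ?_⟩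
  have e : g * (f₁ * f₂) = g * f₁ * f₂ := by ring
  rw [e]
  have hM := hgood₁ f₂
  have hS := hgood₂ 1
  rw [mul_one] at hS
  refine ⟨hM.1, hS.1, awayMap_finitePresentation hπ' _ hS.2, ?_⟩
  haveI : Algebra.FiniteType P S := Algebra.FiniteType.of_restrictScalars_finiteType R P S
  have h4 := hM.2.of_algebra (B := S)
  rwa [← IsScalarTower.algebraMap_apply R P S] at h4

/-- **Generic freeness over a reduced ring** (Stacks 051Z). -/
theorem generic_freeness_reduced :
    ∃ U : Set (PrimeSpectrum R), IsOpen U ∧ Dense U ∧ ∀ u ∈ U, ∃ f : R, f ∉ u.asIdeal ∧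
      (PrimeSpectrum.basicOpen f : Set (PrimeSpectrum R)) ⊆ U ∧ Cond R S M f := by
  let U : Set (PrimeSpectrum R) :=
    ⋃ (f : R) (_ : Cond R S M f), (PrimeSpectrum.basicOpen f : Set (PrimeSpectrum R))
  refine ⟨U, ?_, ?_, ?_⟩
  · exact isOpen_iUnion fun f => isOpen_iUnion fun _ => (PrimeSpectrum.basicOpen f).isOpen
  · rw [dense_iff_inter_open]
    rintro V hV ⟨p, hp⟩
    obtain ⟨_, ⟨g, rfl⟩, hpg, hgV⟩ :=
      PrimeSpectrum.isTopologicalBasis_basic_opens.exists_subset_of_mem_open hp hV
    have hg : g ≠ 0 := by
      rintro rfl
      exact hpg (zero_mem _)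
    obtain ⟨f, hne, hcond⟩ := exists_cond R S M g hg
    have hnil : ¬ IsNilpotent (g * f) := fun h => hne (IsReduced.eq_zero _ h)
    have hbot : PrimeSpectrum.basicOpen (g * f) ≠ ⊥ := by
      rwa [Ne, PrimeSpectrum.basicOpen_eq_bot_iff]
    obtain ⟨q, hq⟩ : ∃ q, q ∈ PrimeSpectrum.basicOpen (g * f) := by
      by_contra hcon
      push Not at hcon
      exact hbot (TopologicalSpace.Opens.ext (Set.eq_empty_of_forall_notMem hcon))
    refine ⟨q, hgV ?_, ?_⟩
    · rw [PrimeSpectrum.basicOpen_mul] at hq
      exact hq.1
    · exact Set.mem_iUnion.mpr ⟨g * f, Set.mem_iUnion.mpr ⟨hcond, hq⟩⟩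
  · intro u hu
    obtain ⟨f, hf⟩ := Set.mem_iUnion.mp hu
    obtain ⟨hcond, huf⟩ := Set.mem_iUnion.mp hf
    refine ⟨f, huf, ?_, hcond⟩
    intro q hq
    exact Set.mem_iUnion.mpr ⟨f, Set.mem_iUnion.mpr ⟨hcond, hq⟩⟩

end main

end Groth.Agent.H46.GenFree
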