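import Mathlib
import Groth.Agent.H46.GenFree.Reduced

/-!
# Stable form of generic freeness and consequences for abstract localizations
-/

set_option autoImplicit false
set_option linter.style.haveILetI false

universe u

namespace Groth.Agent.H46.GenFree

open MvPolynomial

section stable

variable (R S M : Type u) [CommRing R] [IsReduced R] [CommRing S] [Algebra R S]
  [Algebra.FiniteType R S] [AddCommGroup M] [Module S M] [Module R M] [IsScalarTower R S M]
  [Module.Finite S M]

/-- stable form of `exists_cond`: the conclusions hold at every multiple of `g * f` -/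
theorem exists_cond_stable (g : R) (hg : g ≠ 0) :
    ∃ f, g * f ≠ 0 ∧ ∀ f', Cond R S M (g * f * f') := by
  obtain ⟨n, π, hπ⟩ := Algebra.FiniteType.iff_quotient_mvPolynomial''.mp
    (inferInstance : Algebra.FiniteType R S)
  let P := MvPolynomial (Fin n) R
  letI algPS : Algebra P S := π.toRingHom.toAlgebra
  haveI : IsScalarTower R P S := IsScalarTower.of_algebraMap_eq fun x => (π.commutes x).symm
  letI modPM : Module P M := Module.compHom M π.toRingHom
  haveI : IsScalarTower P S M := ⟨fun p s m => by
    change (π p * s) • m = π p • (s • m)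
    rw [mul_smul]⟩
  haveI : IsScalarTower R P M := ⟨fun r p m => by
    change π (r • p) • m = r • (π p • m)
    rw [map_smul, smul_assoc]⟩
  have hπ' : Function.Surjective (algebraMap P S) := hπ
  haveI : Module.Finite P S := Module.Finite.of_surjective (Algebra.linearMap P S) hπ'
  haveI : Module.Finite P M := Module.Finite.trans S M
  have genM : ∃ r, GenUpTo R P M g r := by
    obtain ⟨r, v, hv⟩ := Module.Finite.exists_fin (R := P) (M := M)
    exact ⟨r, v, fun m => ⟨0, by rw [hv]; trivial⟩⟩
  obtain ⟨f₁, hf₁, hgood₁⟩ := gf_all n R M g hg genM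
  have genS : ∃ r, GenUpTo R P S (g * f₁) r := by
    obtain ⟨r, v, hv⟩ := Module.Finite.exists_fin (R := P) (M := S)
    exact ⟨r, v, fun m => ⟨0, by rw [hv]; trivial⟩⟩
  obtain ⟨f₂, hf₂, hgood₂⟩ := gf_all n R S (g * f₁) hf₁ genS
  refine ⟨f₁ * f₂, by rwa [← mul_assoc], fun f' => ?_⟩
  have e : g * (f₁ * f₂) * f' = g * f₁ * f₂ * f' := by ring
  have e' : g * (f₁ * f₂) * f' = g * f₁ * (f₂ * f') := by ring
  have hS := hgood₂ f'
  have hM := hgood₁ (f₂ * f')
  rw [← e] at hS
  rw [← e'] at hM
  refine ⟨hM.1, hS.1, awayMap_finitePresentation hπ' _ hS.2, ?_⟩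
  haveI : Algebra.FiniteType P S := Algebra.FiniteType.of_restrictScalars_finiteType R P S
  have h4 := hM.2.of_algebra (B := S)
  rwa [← IsScalarTower.algebraMap_apply R P S] at h4

end stable

section abs

variable {R S : Type u} [CommRing R] [CommRing S] [Algebra R S] {g : R}

/-- flatness of the localized map from freeness of the localized module -/
theorem awayMap_flat_of_free
    (hfree : Module.Free (Localization.Away g) (LocalizedModule (Submonoid.powers g) S)) :
    (Localization.awayMap (algebraMap R S) g).Flat := by
  let R' := Localization.Away g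
  let S' := Localization.Away (algebraMap R S g)
  letI algR'S' : Algebra R' S' := (Localization.awayMap (algebraMap R S) g).toAlgebra
  haveI tow : IsScalarTower R R' S' := IsScalarTower.of_algebraMap_eq fun x => by
    change algebraMap R S' x = Localization.awayMap (algebraMap R S) g (algebraMap R R' x)
    rw [Localization.awayMap, IsLocalization.Away.map, IsLocalization.map_eq,
      IsScalarTower.algebraMap_apply R S S']
  haveI : IsLocalization (Algebra.algebraMapSubmonoid S (Submonoid.powers g)) S' := by
    rw [Algebra.algebraMapSubmonoid_powers]; infer_instance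
  haveI : IsLocalizedModule (Submonoid.powers g) (IsScalarTower.toAlgHom R S S').toLinearMap :=
    inferInstance
  have h1 : Module.Free R' S' :=
    (goodFree_iff (IsScalarTower.toAlgHom R S S').toLinearMap).mp hfree
  have h2 : Module.Flat R' S' := inferInstance
  exact h2

/-- If the conclusions of generic freeness hold at `g` (for `M = S`), then any model of the localized
map `R_g → S_g` is flat and of finite presentation. -/
theorem Cond.ringHom (hc : Cond R S S g) {R' S' : Type u} [CommRing R'] [CommRing S']
    [Algebra R R'] [Algebra S S'] [IsLocalization.Away g R']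
    [IsLocalization.Away (algebraMap R S g) S'] (φ' : R' →+* S')
    (hφ : φ'.comp (algebraMap R R') = (algebraMap S S').comp (algebraMap R S)) :
    φ'.Flat ∧ φ'.FinitePresentation := by
  let e₁ : Localization.Away g ≃ₐ[R] R' := IsLocalization.algEquiv (Submonoid.powers g) _ _
  let e₂ : Localization.Away (algebraMap R S g) ≃ₐ[S] S' :=
    IsLocalization.algEquiv (Submonoid.powers (algebraMap R S g)) _ _
  have hφ' : φ' = e₂.toRingEquiv.toRingHom.comp
      ((Localization.awayMap (algebraMap R S) g).comp e₁.symm.toRingEquiv.toRingHom) := by
    apply IsLocalization.ringHom_ext (Submonoid.powers g)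
    rw [hφ]
    ext x
    simp only [RingHom.comp_apply, RingEquiv.toRingHom_eq_coe, RingHom.coe_coe,
      AlgEquiv.coe_ringEquiv, AlgEquiv.commutes]
    rw [Localization.awayMap, IsLocalization.Away.map, IsLocalization.map_eq, AlgEquiv.commutes]
  rw [hφ']
  constructor
  · exact RingHom.Flat.respectsIso.1 _ _
      (RingHom.Flat.respectsIso.2 _ _ (awayMap_flat_of_free hc.2.1))
  · exact RingHom.finitePresentation_respectsIso.1 _ _
      (RingHom.finitePresentation_respectsIso.2 _ _ hc.2.2.1)

end abs

end Groth.Agent.H46.GenFree
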