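import Mathlib
import Groth.Agent.H46.GenFree.CondAbs

/-!
# Generic flatness for schemes over a reduced base
-/

set_option autoImplicit false
set_option linter.style.haveILetI false

universe u

open AlgebraicGeometry CategoryTheory TopologicalSpace

namespace Groth.Agent.H46.GenFree

section restrict

variable {P : MorphismProperty Scheme.{u}}
  {Q : ∀ {R S : Type u} [CommRing R] [CommRing S], (R →+* S) → Prop} [HasRingHomProperty P Q]

/-- criterion for `P (f ∣_ W)` in terms of ring maps on affine opens of `X` and `Y` -/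
theorem restrict_of_exists_appLE (hQ : RingHom.StableUnderCompositionWithLocalizationAwaySource Q)
    {X Y : Scheme.{u}} (f : X ⟶ Y) (W : Y.Opens)
    (H : ∀ x : X, f x ∈ W → ∃ (U : Y.affineOpens) (V : X.affineOpens), x ∈ V.1 ∧ U.1 ≤ W ∧
      ∃ e : V.1 ≤ f ⁻¹ᵁ U.1, Q (f.appLE U.1 V.1 e).hom) : P (f ∣_ W) := by
  rw [HasRingHomProperty.iff_exists_appLE (P := P) hQ]
  intro x
  obtain ⟨U, V, hxV, hUW, e, hQ'⟩ := H x.1 x.2
  have hVW : V.1 ≤ f ⁻¹ᵁ W := e.trans (fun y hy => hUW hy)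
  let U' : W.toScheme.Opens := W.ι ⁻¹ᵁ U.1
  let V' : (f ⁻¹ᵁ W).toScheme.Opens := (f ⁻¹ᵁ W).ι ⁻¹ᵁ V.1
  have hU' : W.ι ''ᵁ U' = U.1 := by
    rw [Scheme.Hom.image_preimage_eq_opensRange_inf, Scheme.Opens.opensRange_ι]
    exact inf_eq_right.mpr hUW
  have hV' : (f ⁻¹ᵁ W).ι ''ᵁ V' = V.1 := by
    rw [Scheme.Hom.image_preimage_eq_opensRange_inf, Scheme.Opens.opensRange_ι]
    exact inf_eq_right.mpr hVW
  have hU'aff : IsAffineOpen U' := by
    rw [← W.ι.isAffineOpen_iff_of_isOpenImmersion, hU']; exact U.2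
  have hV'aff : IsAffineOpen V' := by
    rw [← (f ⁻¹ᵁ W).ι.isAffineOpen_iff_of_isOpenImmersion, hV']; exact V.2
  have e' : V' ≤ (f ∣_ W) ⁻¹ᵁ U' := by
    intro y hy
    have h1 : f ((f ⁻¹ᵁ W).ι y) ∈ U.1 := e hy
    have h2 : W.ι ((f ∣_ W) y) = f ((f ⁻¹ᵁ W).ι y) := by
      rw [← Scheme.Hom.comp_apply, ← Scheme.Hom.comp_apply, morphismRestrict_ι]
    show W.ι ((f ∣_ W) y) ∈ U.1
    rw [h2]; exact h1
  refine ⟨⟨U', hU'aff⟩, ⟨V', hV'aff⟩, hxV, e', ?_⟩
  rw [morphismRestrict_appLE]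
  have key : ∀ (A : Y.Opens) (B : X.Opens) (_ : A = U.1) (_ : B = V.1) (e₀ : B ≤ f ⁻¹ᵁ A),
      Q (f.appLE A B e₀).hom := by
    rintro _ _ rfl rfl e₀; exact hQ'
  exact key _ _ hU' hV' _

end restrict

section affine

variable {X S : Scheme.{u}} (f : X ⟶ S) [IsReduced S] [LocallyOfFiniteType f]

/-- generic freeness for one pair of affine opens, in stable form -/
theorem exists_good_affine {V : S.Opens} (hV : IsAffineOpen V) {W : X.Opens} (hW : IsAffineOpen W)
    (e : W ≤ f ⁻¹ᵁ V) (g : Γ(S, V)) (hg : g ≠ 0) :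
    ∃ g' : Γ(S, V), g * g' ≠ 0 ∧ ∀ (f' : Γ(S, V))
      (e' : X.basicOpen (f.appLE V W e (g * g' * f')) ≤ f ⁻¹ᵁ (S.basicOpen (g * g' * f'))),
      (f.appLE (S.basicOpen (g * g' * f')) (X.basicOpen (f.appLE V W e (g * g' * f'))) e').hom.Flat ∧
      (f.appLE (S.basicOpen (g * g' * f'))
        (X.basicOpen (f.appLE V W e (g * g' * f'))) e').hom.FinitePresentation := by
  let R := Γ(S, V)
  let T := Γ(X, W)
  letI algRT : Algebra R T := (f.appLE V W e).hom.toAlgebra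
  haveI : Algebra.FiniteType R T :=
    f.finiteType_appLE hV hW e
  obtain ⟨g', hne, hc⟩ := exists_cond_stable R T T g hg
  refine ⟨g', hne, fun f' e' => ?_⟩
  haveI locR := hV.isLocalization_basicOpen (g * g' * f')
  haveI locT := hW.isLocalization_basicOpen (f.appLE V W e (g * g' * f'))
  have hmap := IsAffineOpen.appLE_eq_away_map f hV hW e (g * g' * f')
  have hmap' : (f.appLE (S.basicOpen (g * g' * f'))
      (X.basicOpen (f.appLE V W e (g * g' * f'))) e').hom =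
      IsLocalization.Away.map _ _ (f.appLE V W e).hom (g * g' * f') := by
    rw [hmap]; rfl
  rw [hmap']
  exact Cond.ringHom (hc f') _ (IsLocalization.map_comp _)

end affine

section finite

variable {X S : Scheme.{u}} (f : X ⟶ S)

/-- the localized ring map at `h` for the affine pair `(V, W)` is flat and finitely presented -/
def GoodQ {V : S.Opens} {W : X.Opens} (e : W ≤ f ⁻¹ᵁ V) (h : Γ(S, V)) : Prop :=
  ∀ e' : X.basicOpen (f.appLE V W e h) ≤ f ⁻¹ᵁ (S.basicOpen h),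
    (f.appLE (S.basicOpen h) (X.basicOpen (f.appLE V W e h)) e').hom.Flat ∧
    (f.appLE (S.basicOpen h) (X.basicOpen (f.appLE V W e h)) e').hom.FinitePresentation

variable [IsReduced S] [LocallyOfFiniteType f]

theorem exists_good_finset {V : S.Opens} (hV : IsAffineOpen V) (t : Finset X.affineOpens)
    (ht : ∀ W ∈ t, W.1 ≤ f ⁻¹ᵁ V) (g : Γ(S, V)) (hg : g ≠ 0) :
    ∃ g' : Γ(S, V), g * g' ≠ 0 ∧ ∀ (W : X.affineOpens) (hW : W ∈ t) (f' : Γ(S, V)),
      GoodQ f (ht W hW) (g * g' * f') := by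
  classical
  induction t using Finset.induction_on generalizing g with
  | empty => exact ⟨1, by simpa using hg, fun W hW => absurd hW (Finset.notMem_empty W)⟩
  | insert W t hWt ih =>
    have ht' : ∀ W' ∈ t, W'.1 ≤ f ⁻¹ᵁ V := fun W' hW' => ht W' (Finset.mem_insert_of_mem hW')
    obtain ⟨g₁, hg₁, h₁⟩ := ih ht' g hg
    obtain ⟨g₂, hg₂, h₂⟩ := exists_good_affine f hV W.2 (ht W (Finset.mem_insert_self W t))
      (g * g₁) hg₁
    refine ⟨g₁ * g₂, by rwa [← mul_assoc], fun W' hW' f' => ?_⟩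
    rcases Finset.mem_insert.mp hW' with rfl | hW't
    · rw [show g * (g₁ * g₂) * f' = g * g₁ * g₂ * f' by ring]
      exact fun e' => h₂ f' e'
    · rw [show g * (g₁ * g₂) * f' = g * g₁ * (g₂ * f') by ring]
      exact h₁ W' hW't (g₂ * f')

variable [QuasiCompact f]

theorem exists_good_basicOpen {V : S.Opens} (hV : IsAffineOpen V) (hVne : (V : Set S).Nonempty) :
    ∃ h : Γ(S, V), h ≠ 0 ∧ Flat (f ∣_ S.basicOpen h) ∧
      LocallyOfFinitePresentation (f ∣_ S.basicOpen h) := by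
  classical
  haveI : Nonempty V := hVne.to_subtype
  haveI : Nontrivial Γ(S, V) := inferInstance
  obtain ⟨s, hsfin, hs⟩ := isCompact_and_isOpen_iff_finite_and_eq_biUnion_affineOpens.mp
    ⟨QuasiCompact.isCompact_preimage (f := f) _ V.isOpen hV.isCompact, (f ⁻¹ᵁ V).isOpen⟩
  have hsle : ∀ W ∈ hsfin.toFinset, W.1 ≤ f ⁻¹ᵁ V := by
    intro W hW x hx
    have : x ∈ ⋃ i ∈ s, (i : Set X) :=
      Set.mem_biUnion (hsfin.mem_toFinset.mp hW) hx
    rw [← hs] at this
    exact this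
  obtain ⟨g', hne, hgood⟩ := exists_good_finset f hV hsfin.toFinset hsle 1 one_ne_zero
  refine ⟨1 * g' * 1, by simpa using hne, ?_, ?_⟩
  · refine restrict_of_exists_appLE (P := @Flat)
      (RingHom.Flat.stableUnderComposition.stableUnderCompositionWithLocalizationAway
        RingHom.Flat.holdsForLocalizationAway).left f _ fun x hx => ?_
    have hxV : x ∈ f ⁻¹ᵁ V := S.basicOpen_le _ hx
    have : x ∈ ⋃ i ∈ s, (i : Set X) := by rw [← hs]; exact hxV
    obtain ⟨W, hWs, hxW⟩ := Set.mem_iUnion₂.mp this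
    have hW : W ∈ hsfin.toFinset := hsfin.mem_toFinset.mpr hWs
    have hle : X.basicOpen (f.appLE V W.1 (hsle W hW) (1 * g' * 1)) ≤
        f ⁻¹ᵁ (S.basicOpen (1 * g' * 1)) := by
      rw [Scheme.basicOpen_appLE]; exact inf_le_right
    refine ⟨⟨S.basicOpen (1 * g' * 1), hV.basicOpen _⟩,
      ⟨X.basicOpen (f.appLE V W.1 (hsle W hW) (1 * g' * 1)), W.2.basicOpen _⟩, ?_, le_rfl, hle,
      (hgood W hW 1 hle).1⟩
    change x ∈ X.basicOpen (f.appLE V W.1 (hsle W hW) (1 * g' * 1))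
    rw [Scheme.basicOpen_appLE]
    exact ⟨hxW, hx⟩
  · refine restrict_of_exists_appLE (P := @LocallyOfFinitePresentation)
      (RingHom.finitePresentation_stableUnderComposition.stableUnderCompositionWithLocalizationAway
        RingHom.finitePresentation_holdsForLocalizationAway).left f _ fun x hx => ?_
    have hxV : x ∈ f ⁻¹ᵁ V := S.basicOpen_le _ hx
    have : x ∈ ⋃ i ∈ s, (i : Set X) := by rw [← hs]; exact hxV
    obtain ⟨W, hWs, hxW⟩ := Set.mem_iUnion₂.mp this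
    have hW : W ∈ hsfin.toFinset := hsfin.mem_toFinset.mpr hWs
    have hle : X.basicOpen (f.appLE V W.1 (hsle W hW) (1 * g' * 1)) ≤
        f ⁻¹ᵁ (S.basicOpen (1 * g' * 1)) := by
      rw [Scheme.basicOpen_appLE]; exact inf_le_right
    refine ⟨⟨S.basicOpen (1 * g' * 1), hV.basicOpen _⟩,
      ⟨X.basicOpen (f.appLE V W.1 (hsle W hW) (1 * g' * 1)), W.2.basicOpen _⟩, ?_, le_rfl, hle,
      (hgood W hW 1 hle).2⟩
    change x ∈ X.basicOpen (f.appLE V W.1 (hsle W hW) (1 * g' * 1))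
    rw [Scheme.basicOpen_appLE]
    exact ⟨hxW, hx⟩

end finite

section main

variable {X S : Scheme.{u}} (f : X ⟶ S)

/-- for a property local on the target, `P` holds over the union of all opens over which it holds -/
theorem restrict_sSup {P : MorphismProperty Scheme.{u}} [IsZariskiLocalAtTarget P]
    (𝒲 : Set S.Opens) (h𝒲 : ∀ W ∈ 𝒲, P (f ∣_ W)) : P (f ∣_ sSup 𝒲) := by
  apply IsZariskiLocalAtTarget.of_forall_exists_morphismRestrict
  intro x
  have hx : (x.1 : S) ∈ sSup 𝒲 := x.2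
  rw [Opens.mem_sSup] at hx
  obtain ⟨W, hW, hxW⟩ := hx
  refine ⟨(sSup 𝒲).ι ⁻¹ᵁ W, hxW, ?_⟩
  rw [P.arrow_mk_iso_iff (morphismRestrictRestrict f (sSup 𝒲) _)]
  have : (sSup 𝒲).ι ''ᵁ ((sSup 𝒲).ι ⁻¹ᵁ W) = W := by
    rw [Scheme.Hom.image_preimage_eq_opensRange_inf, Scheme.Opens.opensRange_ι]
    exact inf_eq_right.mpr (le_sSup hW)
  rw [this]
  exact h𝒲 W hW

variable [IsReduced S] [LocallyOfFiniteType f] [QuasiCompact f]

/-- **Generic flatness** over a reduced base scheme. -/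
theorem generic_flatness :
    ∃ U : S.Opens, Dense (U : Set S) ∧ Flat (f ∣_ U) ∧ LocallyOfFinitePresentation (f ∣_ U) := by
  let 𝒲 : Set S.Opens := {W | Flat (f ∣_ W) ∧ LocallyOfFinitePresentation (f ∣_ W)}
  haveI h1 : IsZariskiLocalAtTarget @Flat.{u} :=
    HasRingHomProperty.instIsZariskiLocalAtTarget (P := @Flat) (Q := RingHom.Flat)
  haveI h2 : IsZariskiLocalAtTarget @LocallyOfFinitePresentation.{u} :=
    HasRingHomProperty.instIsZariskiLocalAtTarget (P := @LocallyOfFinitePresentation)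
      (Q := RingHom.FinitePresentation)
  refine ⟨sSup 𝒲, ?_, restrict_sSup f 𝒲 (fun W hW => hW.1), restrict_sSup f 𝒲 (fun W hW => hW.2)⟩
  rw [dense_iff_inter_open]
  rintro O hO ⟨s, hs⟩
  obtain ⟨V, hV, hsV, hVO⟩ := Opens.isBasis_iff_nbhd.mp S.isBasis_affineOpens
    (show s ∈ (⟨O, hO⟩ : S.Opens) from hs)
  obtain ⟨h, hne, hflat, hfp⟩ := exists_good_basicOpen f hV ⟨s, hsV⟩
  have hbot : S.basicOpen h ≠ ⊥ := by
    rwa [Ne, basicOpen_eq_bot_iff]
  obtain ⟨y, hy⟩ : ∃ y, y ∈ S.basicOpen h := by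
    by_contra hcon
    push Not at hcon
    exact hbot (Opens.ext (Set.eq_empty_of_forall_notMem hcon))
  refine ⟨y, hVO (S.basicOpen_le h hy), ?_⟩
  exact (le_sSup (show S.basicOpen h ∈ 𝒲 from ⟨hflat, hfp⟩) : S.basicOpen h ≤ sSup 𝒲) hy

end main

end Groth.Agent.H46.GenFree
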